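import Cfsg.Agent.CosetEnum.Fi24E7.Orbit
import Cfsg.Agent.CosetEnum.Fi24P.Chain
import Cfsg.Agent.CosetEnum.WE7A.Bound
import Cfsg.Agent.CosetEnum.WE7B.Bound
import Cfsg.Agent.CosetEnum.WE7C.Bound
import Cfsg.Agent.CosetEnum.WE7D.Bound
import Cfsg.Agent.CosetEnum.WE7E.Bound
import Cfsg.Agent.CosetEnum.WE7F.Bound
import Cfsg.Agent.CosetEnum.WE7G.Bound

set_option autoImplicit false
set_option maxRecDepth 100000

/-!
The relation `l = (a b c d h i e)^9` in the presented Fi24: the product of the two long elements lies in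
the subgroup of type E7, which acts faithfully on 56 of the cosets, and acts trivially there.
-/

namespace CfsgLib.CosetEnum.Fi24E7

theorem card_le : Finite WE7.setup.Grp ∧ Nat.card WE7.setup.Grp ≤ 2903040 := by
  have h1 := WE7G.bound 1 ⟨WE7.setup.finite_letSub_nil, WE7.setup.card_letSub_nil⟩
  have h2 := WE7F.bound _ h1
  have h3 := WE7E.bound _ h2
  have h4 := WE7D.bound _ h3
  have h5 := WE7C.bound _ h4
  have h6 := WE7B.bound _ h5
  have h7 := WE7A.bound _ h6
  have htop : WE7.setup.letSub WE7A.enum.L = ⊤ := WE7.setup.letSub_all _ (by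
    intro x hx
    have hx' : x < 7 := hx
    interval_cases x <;> decide +kernel)
  rw [htop] at h7
  haveI := h7.1
  refine ⟨Finite.of_equiv _ Subgroup.topEquiv.toEquiv, ?_⟩
  rw [← Nat.card_congr (Subgroup.topEquiv (G := WE7.setup.Grp)).toEquiv]
  exact h7.2.trans (by decide +kernel)

/-- The letters as letters of Fi24. -/
def m24 (x : ℕ) : ℕ := [0, 1, 2, 3, 4, 5, 7].getD x 0

theorem equiv_all (x : ℕ) (hx : x < 7) (i : ℕ) (hi : i < 56) :
    Fi24H.T (m24 x) (ext oTab i) = ext oTab (ext (tb x) i) := by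
  interval_cases x
  · have h1 := allR_spec 6 0 equiv0 i (Nat.zero_le _) (by omega)
    rw [show Nat.blt i 56 = true by simpa using hi] at h1
    exact Nat.eq_of_beq_eq_true h1
  · have h1 := allR_spec 6 0 equiv1 i (Nat.zero_le _) (by omega)
    rw [show Nat.blt i 56 = true by simpa using hi] at h1
    exact Nat.eq_of_beq_eq_true h1
  · have h1 := allR_spec 6 0 equiv2 i (Nat.zero_le _) (by omega)
    rw [show Nat.blt i 56 = true by simpa using hi] at h1
    exact Nat.eq_of_beq_eq_true h1
  · have h1 := allR_spec 6 0 equiv3 i (Nat.zero_le _) (by omega)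
    rw [show Nat.blt i 56 = true by simpa using hi] at h1
    exact Nat.eq_of_beq_eq_true h1
  · have h1 := allR_spec 6 0 equiv4 i (Nat.zero_le _) (by omega)
    rw [show Nat.blt i 56 = true by simpa using hi] at h1
    exact Nat.eq_of_beq_eq_true h1
  · have h1 := allR_spec 6 0 equiv5 i (Nat.zero_le _) (by omega)
    rw [show Nat.blt i 56 = true by simpa using hi] at h1
    exact Nat.eq_of_beq_eq_true h1
  · have h1 := allR_spec 6 0 equiv6 i (Nat.zero_le _) (by omega)
    rw [show Nat.blt i 56 = true by simpa using hi] at h1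
    exact Nat.eq_of_beq_eq_true h1

/-- An element of the subgroup of type E7 acting trivially is trivial. -/
theorem eq_one_of_mem (h : Wide.On Fi24H.fastFix 0 306936)
    (φ : Fi24.setup.Grp →* Equiv.Perm (Fin 306936))
    (hφ : ∀ x, x < 12 → φ (Fi24.setup.g x) = Fi24H.perm h x) (y : Fi24.setup.Grp)
    (hy : y ∈ Fi24.setup.letSub [0, 1, 2, 3, 4, 5, 7])
    (h1 : ∀ i : Fin 306936, (∃ a, a < 56 ∧ ext oTab a = i) → φ y i = i) : y = 1 := by
  obtain ⟨ψ, hψ⟩ := exists_hom56
  obtain ⟨χ, hχ⟩ := WE7.setup.exists_hom (Fi24.setup.g ∘ m24) (fun x _ => Fi24.setup.of_sq _) (by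
    intro w hw
    have hmem : w.map m24 ∈ Fi24.words := by
      have := List.all_eq_true.mp (show WE7.words.all (fun w => decide (w.map m24 ∈ Fi24.words)) = true by
        decide +kernel) w hw
      exact of_decide_eq_true this
    have := Fi24.setup.prod_mem _ hmem
    simpa [prodw, List.map_map] using this)
  haveI := card_le.1
  have hinj : Function.Injective ψ := by
    have hge := range_ge ψ fun x hx => ⟨WE7.setup.g x, fun i => by
      rw [hψ x hx, inv_eq_of_mul_eq_one_right (perm_sq x)]
      unfold perm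
      rw [dif_pos hx]
      rfl⟩
    have hb : Function.Bijective ψ.rangeRestrict :=
      (Nat.bijective_iff_surjective_and_card _).mpr ⟨ψ.rangeRestrict_surjective,
        le_antisymm (card_le.2.trans hge)
          (Nat.card_le_card_of_surjective _ ψ.rangeRestrict_surjective)⟩
    exact fun a b hab => hb.1 (Subtype.ext hab)
  have hlt : ∀ i : Fin 56, ext oTab i < 306936 := fun i => by
    have h1 := allR_spec 6 0 orbit_lt i (Nat.zero_le _) (by omega)
    rw [show Nat.blt i.val 56 = true by simp] at h1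
    simpa using h1
  let O : Fin 56 → Fin 306936 := fun i => ⟨ext oTab i, hlt i⟩
  have hO : Function.Injective O := by
    intro i j hij
    have hj : ((List.range 56).all fun a => (List.range 56).all fun b =>
        decide (ext oTab a = ext oTab b → a = b)) = true := by decide +kernel
    exact Fin.ext (of_decide_eq_true (List.all_eq_true.mp (List.all_eq_true.mp hj i
      (List.mem_range.mpr i.2)) j (List.mem_range.mpr j.2)) (congrArg Fin.val hij))
  have heq : ∀ z : WE7.setup.Grp, ∀ i, φ (χ z) (O i) = O (ψ z i) := by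
    intro z
    have hz : z ∈ Subgroup.closure (WE7.setup.g '' {x | x < 7}) := by
      have : Subgroup.closure (WE7.setup.g '' {x | x < 7}) = ⊤ := by
        rw [eq_top_iff, ← PresentedGroup.closure_range_of]
        refine Subgroup.closure_mono ?_
        rintro _ ⟨a, rfl⟩
        exact ⟨WE7.setup.ix a, WE7.setup.ix_lt a, by rw [Setup.g, WE7.setup.en_ix]⟩
      rw [this]
      exact Subgroup.mem_top z
    induction hz using Subgroup.closure_induction with
    | mem z hz =>
      obtain ⟨x, hx, rfl⟩ := hz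
      intro i
      have hm : m24 x < 12 := by
        have hx' : x < 7 := hx
        interval_cases x <;> decide
      rw [hχ x hx, hψ x hx, Function.comp_apply, hφ _ hm]
      refine Fin.ext ?_
      rw [Fi24H.perm_apply h _ hm]
      show Fi24H.T (m24 x) (ext oTab i) = ext oTab (perm x i).val
      rw [equiv_all x hx i i.2]
      congr 1
      unfold perm
      rw [dif_pos (show x < 7 from hx)]
      rfl
    | one => intro i; simp
    | mul a b _ _ ha hb =>
      intro i
      rw [map_mul, map_mul, map_mul, Equiv.Perm.mul_apply, Equiv.Perm.mul_apply, hb, ha]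
    | inv a _ ha =>
      intro i
      rw [map_inv, map_inv, map_inv, Equiv.Perm.inv_eq_iff_eq, ha, Equiv.Perm.inv_def, Equiv.apply_symm_apply]
  have hr : y ∈ χ.range := by
    refine (Subgroup.closure_le _).mpr ?_ hy
    rintro _ ⟨x, hx, rfl⟩
    simp only [List.mem_cons, List.not_mem_nil, or_false] at hx
    rcases hx with rfl | rfl | rfl | rfl | rfl | rfl | rfl
    · exact ⟨WE7.setup.g 0, hχ 0 (by decide)⟩
    · exact ⟨WE7.setup.g 1, hχ 1 (by decide)⟩
    · exact ⟨WE7.setup.g 2, hχ 2 (by decide)⟩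
    · exact ⟨WE7.setup.g 3, hχ 3 (by decide)⟩
    · exact ⟨WE7.setup.g 4, hχ 4 (by decide)⟩
    · exact ⟨WE7.setup.g 5, hχ 5 (by decide)⟩
    · exact ⟨WE7.setup.g 6, hχ 6 (by decide)⟩
  obtain ⟨z, rfl⟩ := hr
  have : ψ z = 1 := Equiv.ext fun i => hO ((heq z i).symm.trans (h1 _ ⟨i, i.2, rfl⟩))
  rw [show z = 1 from hinj (this.trans (map_one ψ).symm), map_one]

theorem cWord_fixes : ((List.range 56).all fun a => Nat.beq
    (Fi24H.walkT (Fi24P.cWord.map fun x => [0, 1, 2, 3, 4, 5, 7, 8].getD x 0) (ext oTab a)) (ext oTab a)) = true := by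
  decide +kernel

/-- The further relator. -/
def longWord : List ℕ := [11] ++ (List.replicate 9 [4, 8, 7, 3, 2, 1, 0]).flatten

theorem longWord_one (h : Wide.On Fi24H.fastFix 0 306936) : prodw Fi24.setup.g longWord = 1 := by
  obtain ⟨φ, hφ⟩ := Fi24H.exists_perm_hom h
  set c : List ℕ := Fi24P.cWord.map fun x => [0, 1, 2, 3, 4, 5, 7, 8].getD x 0 with hc
  have hlt : ∀ x ∈ c, x < 12 := by rw [hc]; decide +kernel
  have hperm : ∀ i : Fin 306936, (∃ a, a < 56 ∧ ext oTab a = i) → φ (prodw Fi24.setup.g c) i = i := by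
    rintro i ⟨a, ha, hai⟩
    rw [Fi24.setup.hom_prodw φ hφ c hlt, eq_comm, ← Equiv.Perm.inv_eq_iff_eq]
    refine Fin.ext ((Fi24H.perm_word h c hlt i).trans ?_)
    rw [← hai]
    exact Nat.eq_of_beq_eq_true (List.all_eq_true.mp cWord_fixes a (List.mem_range.mpr ha))
  have h1 := eq_one_of_mem h φ hφ _ Fi24P.cWord_mem hperm
  have hsplit : c = Fi24P.uWord ++ (List.replicate 9 [0, 1, 2, 3, 7, 8, 4]).flatten := by
    rw [hc]; decide +kernel
  rw [← hc, hsplit, prodw_append, Fi24P.uWord_eq] at h1
  have hr := prodw_rev_iv (g := Fi24.setup.g) 12 id (fun x _ _ => (Fi24P.inv_eq x).symm)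
    (List.replicate 9 [0, 1, 2, 3, 7, 8, 4]).flatten (by decide +kernel)
  rw [List.map_id, show ((List.replicate 9 [0, 1, 2, 3, 7, 8, 4]).flatten).reverse =
    (List.replicate 9 [4, 8, 7, 3, 2, 1, 0]).flatten by decide] at hr
  rw [longWord, prodw_append, hr, inv_eq_of_mul_eq_one_left h1]
  simp only [prodw, List.map_cons, List.map_nil, List.prod_cons, List.prod_nil, mul_one]
  exact Fi24.setup.of_sq _

end CfsgLib.CosetEnum.Fi24E7
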