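import Cfsg.Agent.CosetEnum.Fi24H.Perm
import Cfsg.Agent.CosetEnum.Lower
import Cfsg.Agent.CosetEnum.WE7.Setup

set_option autoImplicit false
set_option maxRecDepth 100000
set_option exponentiation.threshold 200000
set_option Elab.async false

/-! The action of type E7 on an orbit of length 56 (generated certificate). -/

namespace CfsgLib.CosetEnum.Fi24E7

def t0 : ℕ := 0x36000370003500034000330003200031000300002f0002e0002d0002c0002b0002700029000280002a0002400025000260002100022000230001e0001f000200001b0001a0001d0001c000170001800019000140001500016000100000f0001100013000120000e0000d0000c0000b0000a00009000080000700006000050000400003000020000000001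

def t1 : ℕ := 0x37000350003600034000330003200031000300002f0002e0002d0002a0002b0002c000260002800027000290002300024000250002000021000220001c0001e0001d0001f000180001a000190001b000150001600017000110001300012000140000d0000c0000e000100000f0000b0000a00009000080000700006000050000400003000010000200000

def t2 : ℕ := 0x37000360003400035000330003200031000300002f0002c0002d0002e000290002a0002b00025000270002600028000240002300022000210001d0001f0001b00020000190001e000170001c000180001a00016000150001400013000120000e000100000f000110000b0000a0000d0000c00009000080000700006000050000400002000030000100000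

def t3 : ℕ := 0x37000360003500033000340003200031000300002e0002f0002b0002c0002d0002a00029000280002700026000220002400020000250001e000230001f000210001d0001c0001b0001a000160001800014000190001100017000130001200015000100000f0000e0000d0000c00009000080000b0000a0000700006000050000300004000020000100000

def t4 : ℕ := 0x3700036000350003400032000330002f00030000310002e0002d0002c000280002a000250002b00027000230002900021000260002200024000200001f0001e0001d0001c0001b0001a00019000180001700013000150001000016000120000d000140000f0000b000110000c0000e0000a00009000060000700008000040000500003000020000100000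

def t5 : ℕ := 0x37000360003500034000330003000031000320002d0002b0002f000290002e000260002c00028000240002a0002500027000230002200021000200001f0001e0001d0001c0001b0001a0001900018000170001600015000140001200013000110000f000100000e0000c0000d0000a0000b00008000090000500006000070000400003000020000100000

def t6 : ℕ := 0x37000360003500034000310002f000330002d000320002e000300002c0002b0002a000290002800027000260002500024000230001f000210001c000220001a0001900020000170001e0001d000150001b000160001800014000130001200011000100000f0000e0000d0000c0000b0000a00007000050000900004000080000600003000020000100000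

/-- The tables on the orbit. -/
noncomputable def tb (x : ℕ) : ℕ := (Bool.rec (motive := fun _ => ℕ) (Bool.rec (motive := fun _ => ℕ) t0 (Bool.rec (motive := fun _ => ℕ) t1 t2 (Nat.ble 2 x)) (Nat.ble 1 x)) (Bool.rec (motive := fun _ => ℕ) (Bool.rec (motive := fun _ => ℕ) t3 t4 (Nat.ble 4 x)) (Bool.rec (motive := fun _ => ℕ) t5 t6 (Nat.ble 6 x)) (Nat.ble 5 x)) (Nat.ble 3 x))

/-- The points of the orbit. -/
def oTab : ℕ := 0x300005000070000a0000e00013000150001a0001d0002c00028000420003c000650005a0005c0009a000880008b000d0000d3000d9001380013f00147001cb001c8001c70013d0013c00135000d7000d1000cd000890008600085000630005800057000400003a000390002a000260001b0001900012000110000d0000c0000900006000040000200001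

theorem valid56 : allR (validEntry 56 7 tb id) 6 0 = true := by decide +kernel

theorem fixes56 : WE7.words.all (fun w => fixesAll 56 tb w 6) = true := by decide +kernel

theorem orbit_lt : allR (fun i => bif Nat.blt i 56 then Nat.blt (ext oTab i) 306936 else true) 6 0 = true := by decide +kernel

theorem equiv0 : allR (fun i => bif Nat.blt i 56 then Nat.beq (Fi24H.u0 (ext oTab i)) (ext oTab (ext t0 i)) else true) 6 0 = true := by decide +kernel

theorem equiv1 : allR (fun i => bif Nat.blt i 56 then Nat.beq (Fi24H.u1 (ext oTab i)) (ext oTab (ext t1 i)) else true) 6 0 = true := by decide +kernel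

theorem equiv2 : allR (fun i => bif Nat.blt i 56 then Nat.beq (Fi24H.u2 (ext oTab i)) (ext oTab (ext t2 i)) else true) 6 0 = true := by decide +kernel

theorem equiv3 : allR (fun i => bif Nat.blt i 56 then Nat.beq (Fi24H.u3 (ext oTab i)) (ext oTab (ext t3 i)) else true) 6 0 = true := by decide +kernel

theorem equiv4 : allR (fun i => bif Nat.blt i 56 then Nat.beq (Fi24H.u4 (ext oTab i)) (ext oTab (ext t4 i)) else true) 6 0 = true := by decide +kernel

theorem equiv5 : allR (fun i => bif Nat.blt i 56 then Nat.beq (Fi24H.u5 (ext oTab i)) (ext oTab (ext t5 i)) else true) 6 0 = true := by decide +kernel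

theorem equiv6 : allR (fun i => bif Nat.blt i 56 then Nat.beq (Fi24H.u7 (ext oTab i)) (ext oTab (ext t6 i)) else true) 6 0 = true := by decide +kernel

theorem valid_spec7 (i x : ℕ) (hi : i < 56) (hx : x < 7) :
    ext (tb x) i < 56 ∧ ext (tb x) (ext (tb x) i) = i := by
  have h1 := allR_spec 6 0 valid56 i (Nat.zero_le _) (by omega)
  unfold validEntry at h1
  rw [show Nat.blt i 56 = true by simpa using hi] at h1
  simp only [cond_true] at h1
  have h2 := allR_spec 4 0 h1 x (Nat.zero_le _) (by omega)
  rw [show Nat.blt x 7 = true by simpa using hx] at h2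
  simp only [cond_true, Bool.and_eq_true, Nat.blt_eq, Nat.beq_eq] at h2
  exact h2

/-- The permutation of a letter on the orbit. -/
noncomputable def perm (x : ℕ) : Equiv.Perm (Fin 56) :=
  if hx : x < 7 then
    { toFun := fun i => ⟨ext (tb x) i, (valid_spec7 i x i.2 hx).1⟩
      invFun := fun i => ⟨ext (tb x) i, (valid_spec7 i x i.2 hx).1⟩
      left_inv := fun i => Fin.ext (valid_spec7 i x i.2 hx).2
      right_inv := fun i => Fin.ext (valid_spec7 i x i.2 hx).2 }
  else 1

theorem words_lt : ∀ w ∈ WE7.words, ∀ x ∈ w, x < 7 := by decide +kernel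

theorem perm_sq (x : ℕ) : perm x * perm x = 1 := by
  unfold perm
  split
  · exact Equiv.ext fun i => Fin.ext (valid_spec7 i x i.2 (by assumption)).2
  · simp

theorem perm_word : ∀ w : List ℕ, (∀ x ∈ w, x < 7) → ∀ i : Fin 56,
    ((prodw perm w)⁻¹ i).val = walk tb w i := by
  intro w
  induction w with
  | nil => intro _ i; rfl
  | cons x w ih =>
    intro hw i
    have hx := hw x List.mem_cons_self
    rw [prodw_cons, mul_inv_rev, Equiv.Perm.mul_apply, ih (fun y hy => hw y (List.mem_cons_of_mem x hy)),
      inv_eq_of_mul_eq_one_right (perm_sq x)]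
    show walk tb w _ = walk tb w (CfsgLib.CosetEnum.T tb x i)
    congr 1
    unfold perm
    rw [dif_pos hx]
    rfl

theorem exists_hom56 : ∃ ψ : WE7.setup.Grp →* Equiv.Perm (Fin 56),
    ∀ x, x < 7 → ψ (WE7.setup.g x) = perm x := by
  refine WE7.setup.exists_hom perm (fun x _ => perm_sq x) fun w hw => ?_
  have hlt : ∀ x ∈ w, x < 7 := words_lt w hw
  rw [← inv_eq_one]
  refine Equiv.ext fun i => Fin.ext ((perm_word w hlt i).trans ?_)
  have h1 := allR_spec 6 0 (List.all_eq_true.mp fixes56 w hw) i (Nat.zero_le _) (by omega)
  rw [show Nat.blt i.val 56 = true by simp] at h1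
  exact Nat.eq_of_beq_eq_true h1

noncomputable def sg0 (x : ℕ) : ℕ := (Bool.rec (motive := fun _ => ℕ) (Bool.rec (motive := fun _ => ℕ) t0 (Bool.rec (motive := fun _ => ℕ) t1 t2 (Nat.ble 2 x)) (Nat.ble 1 x)) (Bool.rec (motive := fun _ => ℕ) (Bool.rec (motive := fun _ => ℕ) t3 t4 (Nat.ble 4 x)) (Bool.rec (motive := fun _ => ℕ) t5 t6 (Nat.ble 6 x)) (Nat.ble 5 x)) (Nat.ble 3 x))

def st0 : ℕ := 0x10000000001000000000100000000010000000001000000000100000000010000000001000000000100000000000000360000000035010000003402000000330300000031060000002f060000002f040000002d060000002d050000002b050000002b0300000029050000002804000000260500000025040000002502000000240500000023040000002203000000210400000020030000001f060000001e030000001c060000001c010000001a06000000190600000019020000001706000000170200000016030000001506000000140300000013040000001103000000100400000010000000000f000000000d040000000d010000000c010000000b040000000b020000000a0200000009030000000803000000070600000005060000000505000000040600000004040000000303000000020200000001010000000000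

def orb0 : ℕ := 0xffffffffffffff

theorem reach0_eq : reach sg0 (fun s => if s < 7 then [s] else []) 6 st0 0 = orb0 := by decide +kernel

theorem count0_eq : cntR (fun j => bit orb0 j) 6 0 = 56 := by decide +kernel

theorem level0 (φ : WE7.setup.Grp →* Equiv.Perm (Fin 56)) (him : ∀ x, x < 7 → IsImg φ (tb x))
    (m' : ℕ) (h : m' ≤ Nat.card (fixK φ (0 :: []))) : 56 * m' ≤ Nat.card (fixK φ []) :=
  level (ns := 7) sg0 (d := 6) (dR := 6) (steps := st0) (R := orb0) (by decide) (by decide)
    (by intro s hs; interval_cases s; exacts [him 0 (by decide), him 1 (by decide), him 2 (by decide), him 3 (by decide), him 4 (by decide), him 5 (by decide), him 6 (by decide)])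
    (by intro s hs; interval_cases s <;> decide +kernel)
    reach0_eq count0_eq (show orb0 < 2 ^ 56 by decide +kernel) h

noncomputable def sg1 (x : ℕ) : ℕ := (Bool.rec (motive := fun _ => ℕ) (Bool.rec (motive := fun _ => ℕ) t1 (Bool.rec (motive := fun _ => ℕ) t2 t3 (Nat.ble 2 x)) (Nat.ble 1 x)) (Bool.rec (motive := fun _ => ℕ) t4 (Bool.rec (motive := fun _ => ℕ) t5 t6 (Nat.ble 5 x)) (Nat.ble 4 x)) (Nat.ble 3 x))

def st1 : ℕ := 0x10000000001000000000100000000010000000001000000000100000000000000240400000021030000001e020000001a050000001705000000170100000015050000001402000000110200000010030000000d030000000d000000000c000000000b030000000b010000000a010000000902000000080200000007050000000505000000050400000004050000000403000000030200000002010000000100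

def orb1 : ℕ := 0x924db3fffe

theorem reach1_eq : reach sg1 (fun s => if s < 6 then [s] else []) 5 st1 1 = orb1 := by decide +kernel

theorem count1_eq : cntR (fun j => bit orb1 j) 6 0 = 27 := by decide +kernel

theorem level1 (φ : WE7.setup.Grp →* Equiv.Perm (Fin 56)) (him : ∀ x, x < 7 → IsImg φ (tb x))
    (m' : ℕ) (h : m' ≤ Nat.card (fixK φ (1 :: [0]))) : 27 * m' ≤ Nat.card (fixK φ [0]) :=
  level (ns := 6) sg1 (d := 6) (dR := 5) (steps := st1) (R := orb1) (by decide) (by decide)
    (by intro s hs; interval_cases s; exacts [him 1 (by decide), him 2 (by decide), him 3 (by decide), him 4 (by decide), him 5 (by decide), him 6 (by decide)])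
    (by intro s hs; interval_cases s <;> decide +kernel)
    reach1_eq count1_eq (show orb1 < 2 ^ 56 by decide +kernel) h

noncomputable def sg2 (x : ℕ) : ℕ := (Bool.rec (motive := fun _ => ℕ) (Bool.rec (motive := fun _ => ℕ) t2 t3 (Nat.ble 1 x)) (Bool.rec (motive := fun _ => ℕ) t4 (Bool.rec (motive := fun _ => ℕ) t5 t6 (Nat.ble 4 x)) (Nat.ble 3 x)) (Nat.ble 2 x))

def st2 : ℕ := 0x100000000000000150400000011010000000d020000000b020000000b000000000a00000000090100000008010000000704000000050400000005030000000404000000040200000003010000000200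

def orb2 : ℕ := 0x1227ffc

theorem reach2_eq : reach sg2 (fun s => if s < 5 then [s] else []) 4 st2 2 = orb2 := by decide +kernel

theorem count2_eq : cntR (fun j => bit orb2 j) 6 0 = 16 := by decide +kernel

theorem level2 (φ : WE7.setup.Grp →* Equiv.Perm (Fin 56)) (him : ∀ x, x < 7 → IsImg φ (tb x))
    (m' : ℕ) (h : m' ≤ Nat.card (fixK φ (2 :: [1, 0]))) : 16 * m' ≤ Nat.card (fixK φ [1, 0]) :=
  level (ns := 5) sg2 (d := 6) (dR := 4) (steps := st2) (R := orb2) (by decide) (by decide)
    (by intro s hs; interval_cases s; exacts [him 2 (by decide), him 3 (by decide), him 4 (by decide), him 5 (by decide), him 6 (by decide)])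
    (by intro s hs; interval_cases s <;> decide +kernel)
    reach2_eq count2_eq (show orb2 < 2 ^ 56 by decide +kernel) h

noncomputable def sg3 (x : ℕ) : ℕ := (Bool.rec (motive := fun _ => ℕ) (Bool.rec (motive := fun _ => ℕ) t3 t4 (Nat.ble 1 x)) (Bool.rec (motive := fun _ => ℕ) t5 t6 (Nat.ble 3 x)) (Nat.ble 2 x))

def st3 : ℕ := 0x1000000000100000000010000000001000000000100000000010000000001000000000000000b0100000009000000000800000000070300000005030000000502000000040300000004010000000300

def orb3 : ℕ := 0x4ff8

theorem reach3_eq : reach sg3 (fun s => if s < 4 then [s] else []) 4 st3 3 = orb3 := by decide +kernel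

theorem count3_eq : cntR (fun j => bit orb3 j) 6 0 = 10 := by decide +kernel

theorem level3 (φ : WE7.setup.Grp →* Equiv.Perm (Fin 56)) (him : ∀ x, x < 7 → IsImg φ (tb x))
    (m' : ℕ) (h : m' ≤ Nat.card (fixK φ (3 :: [2, 1, 0]))) : 10 * m' ≤ Nat.card (fixK φ [2, 1, 0]) :=
  level (ns := 4) sg3 (d := 6) (dR := 4) (steps := st3) (R := orb3) (by decide) (by decide)
    (by intro s hs; interval_cases s; exacts [him 3 (by decide), him 4 (by decide), him 5 (by decide), him 6 (by decide)])
    (by intro s hs; interval_cases s <;> decide +kernel)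
    reach3_eq count3_eq (show orb3 < 2 ^ 56 by decide +kernel) h

noncomputable def sg4 (x : ℕ) : ℕ := (Bool.rec (motive := fun _ => ℕ) t4 (Bool.rec (motive := fun _ => ℕ) t5 t6 (Nat.ble 2 x)) (Nat.ble 1 x))

def st4 : ℕ := 0xb010000000e00

def orb4 : ℕ := 0x4c00

theorem reach4_eq : reach sg4 (fun s => if s < 3 then [s] else []) 1 st4 14 = orb4 := by decide +kernel

theorem count4_eq : cntR (fun j => bit orb4 j) 6 0 = 3 := by decide +kernel

theorem level4 (φ : WE7.setup.Grp →* Equiv.Perm (Fin 56)) (him : ∀ x, x < 7 → IsImg φ (tb x))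
    (m' : ℕ) (h : m' ≤ Nat.card (fixK φ (14 :: [3, 2, 1, 0]))) : 3 * m' ≤ Nat.card (fixK φ [3, 2, 1, 0]) :=
  level (ns := 3) sg4 (d := 6) (dR := 1) (steps := st4) (R := orb4) (by decide) (by decide)
    (by intro s hs; interval_cases s; exacts [him 4 (by decide), him 5 (by decide), him 6 (by decide)])
    (by intro s hs; interval_cases s <;> decide +kernel)
    reach4_eq count4_eq (show orb4 < 2 ^ 56 by decide +kernel) h

noncomputable def sg5 (x : ℕ) : ℕ := (Bool.rec (motive := fun _ => ℕ) t5 t6 (Nat.ble 1 x))

def st5 : ℕ := 0x1000000000000000a00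

def orb5 : ℕ := 0xc00

theorem reach5_eq : reach sg5 (fun s => if s < 2 then [s] else []) 1 st5 10 = orb5 := by decide +kernel

theorem count5_eq : cntR (fun j => bit orb5 j) 6 0 = 2 := by decide +kernel

theorem level5 (φ : WE7.setup.Grp →* Equiv.Perm (Fin 56)) (him : ∀ x, x < 7 → IsImg φ (tb x))
    (m' : ℕ) (h : m' ≤ Nat.card (fixK φ (10 :: [14, 3, 2, 1, 0]))) : 2 * m' ≤ Nat.card (fixK φ [14, 3, 2, 1, 0]) :=
  level (ns := 2) sg5 (d := 6) (dR := 1) (steps := st5) (R := orb5) (by decide) (by decide)
    (by intro s hs; interval_cases s; exacts [him 5 (by decide), him 6 (by decide)])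
    (by intro s hs; interval_cases s <;> decide +kernel)
    reach5_eq count5_eq (show orb5 < 2 ^ 56 by decide +kernel) h

noncomputable def sg6 (x : ℕ) : ℕ := t6

def st6 : ℕ := 0x1000000000000000400

def orb6 : ℕ := 0x50

theorem reach6_eq : reach sg6 (fun s => if s < 1 then [s] else []) 1 st6 4 = orb6 := by decide +kernel

theorem count6_eq : cntR (fun j => bit orb6 j) 6 0 = 2 := by decide +kernel

theorem level6 (φ : WE7.setup.Grp →* Equiv.Perm (Fin 56)) (him : ∀ x, x < 7 → IsImg φ (tb x))
    (m' : ℕ) (h : m' ≤ Nat.card (fixK φ (4 :: [10, 14, 3, 2, 1, 0]))) : 2 * m' ≤ Nat.card (fixK φ [10, 14, 3, 2, 1, 0]) :=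
  level (ns := 1) sg6 (d := 6) (dR := 1) (steps := st6) (R := orb6) (by decide) (by decide)
    (by intro s hs; interval_cases s; exacts [him 6 (by decide)])
    (by intro s hs; interval_cases s <;> decide +kernel)
    reach6_eq count6_eq (show orb6 < 2 ^ 56 by decide +kernel) h

theorem range_ge (φ : WE7.setup.Grp →* Equiv.Perm (Fin 56)) (him : ∀ x, x < 7 → IsImg φ (tb x)) :
    2903040 ≤ Nat.card φ.range :=
  card_range_ge φ _ (le_trans (by decide +kernel) (level0 φ him _ (level1 φ him _ (level2 φ him _ (level3 φ him _ (level4 φ him _ (level5 φ him _ (level6 φ him _ (one_le_card_fixK φ _)))))))))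

end CfsgLib.CosetEnum.Fi24E7
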